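import Groth.Prelude.Def_AlphaP
import Groth.Prelude.Def_CartDual
import Mathlib.Data.Nat.Factorial.BigOperators

/-! Small lemmas on the Hopf algebra of `α_p`: the coefficient of `x` and the comultiplication of powers. -/

set_option autoImplicit false

universe u v

open TensorProduct

namespace AlphaPExtra

variable (p : ℕ) [hp : Fact p.Prime] (T : Type u) [CommRing T] [CharP T p]

/-- the coefficient of `x` -/
noncomputable def c1 : AlphaP.A p T →ₗ[T] T :=
  haveI := CharP.nontrivial_of_char_ne_one (R := T) hp.out.ne_one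
  (AlphaP.basis p T).coord ⟨1, hp.out.one_lt⟩

theorem c1_x_pow {i : ℕ} (hi : i < p) : c1 p T (AlphaP.x p T ^ i) = if i = 1 then 1 else 0 := by
  haveI := CharP.nontrivial_of_char_ne_one (R := T) hp.out.ne_one
  have h : AlphaP.x p T ^ i = AlphaP.basis p T ⟨i, hi⟩ := (AlphaP.basis_apply p T ⟨i, hi⟩).symm
  rw [h]
  simp only [c1, Module.Basis.coord_apply, Module.Basis.repr_self, Finsupp.single_apply, Fin.mk.injEq]

theorem linearMap_ext {M : Type v} [AddCommGroup M] [Module T M] {φ ψ : AlphaP.A p T →ₗ[T] M}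
    (h : ∀ i < p, φ (AlphaP.x p T ^ i) = ψ (AlphaP.x p T ^ i)) : φ = ψ := by
  haveI := CharP.nontrivial_of_char_ne_one (R := T) hp.out.ne_one
  exact (AlphaP.basis p T).ext fun i => by rw [AlphaP.basis_apply]; exact h i i.2

theorem isUnit_natCast {i : ℕ} (h0 : 0 < i) (hi : i < p) : IsUnit (i : T) := by
  have hc : Nat.Coprime i p := Nat.coprime_comm.1
    ((Nat.Prime.coprime_iff_not_dvd hp.out).2 fun h => absurd (Nat.le_of_dvd h0 h) (not_le.2 hi))
  have hbez := congrArg (Int.cast (R := T)) (Nat.gcd_eq_gcd_ab i p)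
  rw [hc.gcd_eq_one] at hbez
  push_cast at hbez
  rw [CharP.cast_eq_zero T p, zero_mul, add_zero] at hbez
  exact isUnit_iff_exists_inv.2 ⟨_, hbez.symm⟩

theorem isUnit_factorial {i : ℕ} (hi : i < p) : IsUnit ((i.factorial : ℕ) : T) := by
  induction i with
  | zero => simp
  | succ n ih =>
    rw [Nat.factorial_succ, Nat.cast_mul]
    exact (isUnit_natCast p T n.succ_pos hi).mul (ih (by omega))

/-- pairing `c1 ⊗ ψ` with `Δ (x^i)` -/
theorem c1_map_comul {M : Type v} [AddCommGroup M] [Module T M] (ψ : AlphaP.A p T →ₗ[T] M) {i : ℕ}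
    (hi : i < p) :
    TensorProduct.lid T M (TensorProduct.map (c1 p T) ψ
      (Coalgebra.comul (R := T) (AlphaP.x p T ^ i))) = (i : T) • ψ (AlphaP.x p T ^ (i - 1)) := by
  have hpow : Coalgebra.comul (R := T) (AlphaP.x p T ^ i) =
      (AlphaP.x p T ⊗ₜ[T] 1 + 1 ⊗ₜ[T] AlphaP.x p T) ^ i := by
    change Bialgebra.comulAlgHom T _ (AlphaP.x p T ^ i) = _
    rw [map_pow]
    exact congrArg (· ^ i) (AlphaP.comul_x p T)
  rw [hpow, Commute.add_pow (Commute.all _ _)]
  simp only [Algebra.TensorProduct.tmul_pow, one_pow, Algebra.TensorProduct.tmul_mul_tmul, mul_one,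
    one_mul, map_sum]
  rw [Finset.sum_eq_single 1]
  · rcases Nat.eq_zero_or_pos i with rfl | h0
    · simp
    · rw [← (Commute.all _ _).eq, ← nsmul_eq_mul, map_nsmul, map_nsmul, TensorProduct.map_tmul,
        TensorProduct.lid_tmul, c1_x_pow p T hp.out.one_lt, if_pos rfl, one_smul, Nat.choose_one_right,
        Nat.cast_smul_eq_nsmul]
  · intro k hk hk1
    rw [← (Commute.all _ _).eq, ← nsmul_eq_mul, map_nsmul, map_nsmul, TensorProduct.map_tmul,
      TensorProduct.lid_tmul, c1_x_pow p T (by rw [Finset.mem_range] at hk; omega), if_neg hk1,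
      zero_smul, smul_zero]
  · intro h
    have : i = 0 := by rw [Finset.mem_range] at h; omega
    subst this
    simp

end AlphaPExtra
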